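/-
Automorphisms intertwining fixed-point-free operators of prime order on elementary abelian groups.
-/
import Mathlib

set_option autoImplicit false

namespace CfsgLib.ThreeOrbit

open Polynomial

universe u

section pair

variable {K V : Type*} [Field K] [AddCommGroup V] [Module K V]

/-- Any nonzero vector can be moved to any other by a linear automorphism. -/
theorem exists_equiv_apply_eq {a b : V} (ha : a ≠ 0) (hb : b ≠ 0) :
    ∃ e : V ≃ₗ[K] V, e a = b := by
  by_cases h : b ∈ Submodule.span K ({a} : Set V)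
  · obtain ⟨c, hc⟩ := Submodule.mem_span_singleton.mp h
    have hc0 : c ≠ 0 := by rintro rfl; simp at hc; exact hb hc.symm
    exact ⟨LinearEquiv.smulOfUnit (Units.mk0 c hc0), hc⟩
  · have h' : a ∉ Submodule.span K ({b} : Set V) := by
      intro h'
      obtain ⟨c, hc⟩ := Submodule.mem_span_singleton.mp h'
      have hc0 : c ≠ 0 := by rintro rfl; simp at hc; exact ha hc.symm
      refine h (Submodule.mem_span_singleton.mpr ⟨c⁻¹, ?_⟩)
      rw [← hc, smul_smul, inv_mul_cancel₀ hc0, one_smul]
    obtain ⟨f, hf, hf0⟩ := Submodule.exists_dual_map_eq_bot_of_notMem h inferInstance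
    obtain ⟨g, hg, hg0⟩ := Submodule.exists_dual_map_eq_bot_of_notMem h' inferInstance
    have hfa : f a = 0 := by
      have : f a ∈ Submodule.map f (Submodule.span K ({a} : Set V)) :=
        Submodule.mem_map_of_mem (Submodule.mem_span_singleton_self a)
      rwa [hf0, Submodule.mem_bot] at this
    have hgb : g b = 0 := by
      have : g b ∈ Submodule.map g (Submodule.span K ({b} : Set V)) :=
        Submodule.mem_map_of_mem (Submodule.mem_span_singleton_self b)
      rwa [hg0, Submodule.mem_bot] at this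
    let φ : Module.Dual K V := (g a)⁻¹ • g + (f b)⁻¹ • f
    have hφa : φ a = 1 := by simp [φ, hfa, inv_mul_cancel₀ hg]
    have hφb : φ b = 1 := by simp [φ, hgb, inv_mul_cancel₀ hf]
    refine ⟨LinearEquiv.transvection (f := φ) (v := b - a) (by rw [map_sub, hφa, hφb, sub_self]), ?_⟩
    simp [LinearMap.transvection.apply, hφa]

end pair

variable {p q : ℕ} [Fact p.Prime] [Fact q.Prime] {V : Type u} [AddCommGroup V] [Module (ZMod p) V]

/-- A fixed-point-free operator of order dividing `q` is killed by the cyclotomic polynomial. -/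
theorem aeval_cyclotomic_eq_zero (T : Module.End (ZMod p) V) (hT : T ^ q = 1)
    (hfpf : ∀ v, T v = v → v = 0) : aeval T (cyclotomic q (ZMod p)) = 0 := by
  have h1 : aeval T (cyclotomic q (ZMod p) * (X - 1)) = 0 := by
    rw [cyclotomic_prime_mul_X_sub_one, map_sub, map_pow, aeval_X, map_one, hT, sub_self]
  rw [mul_comm, map_mul, map_sub, aeval_X, map_one] at h1
  refine LinearMap.ext fun v => hfpf _ ?_
  have := LinearMap.congr_fun h1 v
  rw [Module.End.mul_apply, LinearMap.sub_apply, Module.End.one_apply, LinearMap.zero_apply,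
    sub_eq_zero] at this
  exact this

theorem not_dvd_of_ne (hpq : p ≠ q) : ¬ p ∣ q := fun h =>
  hpq ((Nat.prime_dvd_prime_iff_eq Fact.out Fact.out).mp h)

theorem irreducible_cyclotomic (hpq : p ≠ q) (hord : orderOf (p : ZMod q) = q - 1) :
    Irreducible (cyclotomic q (ZMod p)) := by
  refine ZMod.irreducible_of_dvd_cyclotomic_of_natDegree (not_dvd_of_ne hpq) dvd_rfl ?_
  rw [natDegree_cyclotomic, Nat.totient_prime Fact.out, ← hord, ← orderOf_units,
    ZMod.coe_unitOfCoprime]

/-- The space `V` with `X` acting as `T`. -/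
def Tw (_T : Module.End (ZMod p) V) : Type u := V

variable (T : Module.End (ZMod p) V)

instance : AddCommGroup (Tw T) := inferInstanceAs (AddCommGroup V)

instance [Finite V] : Finite (Tw T) := inferInstanceAs (Finite V)

/-- The identity map to the twisted space. -/
def toTw : V ≃+ Tw T := AddEquiv.refl V

/-- The quotient of the polynomial ring by the cyclotomic polynomial. -/
abbrev CycRing (p q : ℕ) : Type :=
  (ZMod p)[X] ⧸ Ideal.span ({cyclotomic q (ZMod p)} : Set (ZMod p)[X])

/-- The action of the quotient ring. -/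
noncomputable def cycHom (q : ℕ) (h : aeval T (cyclotomic q (ZMod p)) = 0) :
    CycRing p q →+* Module.End (ZMod p) V :=
  Ideal.Quotient.lift _ (aeval T).toRingHom fun a ha => by
    obtain ⟨b, rfl⟩ := Ideal.mem_span_singleton.mp ha
    show aeval T (_ * b) = 0
    rw [map_mul, h, zero_mul]

/-- Fixed-point-free operators of order `q` are conjugate, moving any nonzero vector to any other,
when `p` is a primitive root modulo `q`. -/
theorem exists_intertwiner [Finite V] (hpq : p ≠ q) (hord : orderOf (p : ZMod q) = q - 1)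
    (T T' : Module.End (ZMod p) V) (hT : T ^ q = 1) (hfpf : ∀ v, T v = v → v = 0)
    (hT' : T' ^ q = 1) (hfpf' : ∀ v, T' v = v → v = 0) :
    (∃ f : V ≃+ V, ∀ x, f (T x) = T' (f x)) ∧
    ∀ v w : V, v ≠ 0 → w ≠ 0 → ∃ f : V ≃+ V, (∀ x, f (T x) = T' (f x)) ∧ f v = w := by
  have hmax : (Ideal.span ({cyclotomic q (ZMod p)} : Set (ZMod p)[X])).IsMaximal :=
    PrincipalIdealRing.isMaximal_of_irreducible (irreducible_cyclotomic hpq hord)
  letI : Field (CycRing p q) := Ideal.Quotient.field _
  letI m1 : Module (CycRing p q) (Tw T) :=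
    Module.compHom V (cycHom T q (aeval_cyclotomic_eq_zero T hT hfpf))
  letI m2 : Module (CycRing p q) (Tw T') :=
    Module.compHom V (cycHom T' q (aeval_cyclotomic_eq_zero T' hT' hfpf'))
  have hX : ∀ x : V, (Ideal.Quotient.mk _ X : CycRing p q) • toTw T x = toTw T (T x) := fun x => by
    show aeval T X x = T x
    rw [aeval_X]
  have hX' : ∀ x : V, (Ideal.Quotient.mk _ X : CycRing p q) • toTw T' x = toTw T' (T' x) :=
    fun x => by
      show aeval T' X x = T' x
      rw [aeval_X]
  have : Finite (CycRing p q) := by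
    have : Module.Finite (ZMod p) (CycRing p q) := (cyclotomic.monic q (ZMod p)).finite_quotient
    exact Module.finite_of_finite (ZMod p)
  have hcard : Nat.card (Tw T) = Nat.card (Tw T') := rfl
  have hfr : Module.finrank (CycRing p q) (Tw T) = Module.finrank (CycRing p q) (Tw T') := by
    rw [Module.natCard_eq_pow_finrank (K := CycRing p q) (V := Tw T),
      Module.natCard_eq_pow_finrank (K := CycRing p q) (V := Tw T')] at hcard
    exact Nat.pow_right_injective (Finite.one_lt_card) hcard
  let e : Tw T ≃ₗ[CycRing p q] Tw T' := LinearEquiv.ofFinrankEq _ _ hfr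
  have hmk : ∀ g : Tw T ≃ₗ[CycRing p q] Tw T', ∃ f : V ≃+ V,
      (∀ x, f (T x) = T' (f x)) ∧ ∀ x, f x = (toTw T').symm (g (toTw T x)) := by
    intro g
    refine ⟨((toTw T).trans g.toAddEquiv).trans (toTw T').symm, fun x => ?_, fun x => rfl⟩
    show (toTw T').symm (g (toTw T (T x))) = T' ((toTw T').symm (g (toTw T x)))
    rw [← hX, map_smul]
    have := hX' ((toTw T').symm (g (toTw T x)))
    rw [AddEquiv.apply_symm_apply] at this
    rw [this, AddEquiv.symm_apply_apply]
  refine ⟨?_, fun v w hv hw => ?_⟩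
  · obtain ⟨f, h1, -⟩ := hmk e
    exact ⟨f, h1⟩
  · have hv' : e (toTw T v) ≠ 0 := fun h => hv ((toTw T).injective (by
      rw [map_zero]; exact e.map_eq_zero_iff.mp h))
    have hw' : toTw T' w ≠ 0 := fun h => hw ((toTw T').injective (by rw [map_zero]; exact h))
    obtain ⟨g, hg⟩ := exists_equiv_apply_eq (K := CycRing p q) hv' hw'
    obtain ⟨f, h1, h2⟩ := hmk (e.trans g)
    refine ⟨f, h1, ?_⟩
    rw [h2, LinearEquiv.trans_apply, hg, AddEquiv.symm_apply_apply]

/-- The annihilator of a vector in the polynomial ring. -/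
noncomputable def annPoly (T : Module.End (ZMod p) V) (v : V) : Ideal (ZMod p)[X] where
  carrier := {h | aeval T h v = 0}
  add_mem' {a b} ha hb := by
    show aeval T (a + b) v = 0
    rw [map_add, LinearMap.add_apply, ha, hb, add_zero]
  zero_mem' := by simp
  smul_mem' c x hx := by
    show aeval T (c * x) v = 0
    rw [map_mul, Module.End.mul_apply, hx, map_zero]

theorem mem_annPoly {T : Module.End (ZMod p) V} {v : V} {h : (ZMod p)[X]} :
    h ∈ annPoly T v ↔ aeval T h v = 0 := Iff.rfl

theorem aeval_pow_intertwine (f : V ≃+ V) (T : Module.End (ZMod p) V) (i : ℕ)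
    (hf : ∀ x, f (T x) = (T ^ i) (f x)) (h : (ZMod p)[X]) (x : V) :
    f (aeval T h x) = aeval T (h.comp (X ^ i)) (f x) := by
  induction h using Polynomial.induction_on' generalizing x with
  | add a b ha hb =>
    rw [map_add, LinearMap.add_apply, map_add, ha, hb, add_comp, map_add, LinearMap.add_apply]
  | monomial n c =>
    have hn : ∀ (n : ℕ) (x : V), f ((T ^ n) x) = ((T ^ i) ^ n) (f x) := by
      intro n
      induction n with
      | zero => simp
      | succ n ih =>
        intro x
        rw [pow_succ', pow_succ', Module.End.mul_apply, Module.End.mul_apply, hf, ih]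
    rw [aeval_monomial, monomial_comp, map_mul, aeval_C, map_pow, map_pow, aeval_X,
      Module.End.mul_apply, Module.End.mul_apply, Module.algebraMap_end_apply,
      Module.algebraMap_end_apply, ← hn]
    exact ZMod.map_smul f.toAddMonoidHom c _

/-- If the intertwiners of a fixed-point-free operator of prime order `q` move every vector to
every other and realise every power, then `p` is a primitive root modulo `q`. -/
theorem orderOf_eq_of_transitive [Finite V] [Nontrivial V] (hpq : p ≠ q)
    (T : Module.End (ZMod p) V) (hT : T ^ q = 1) (hfpf : ∀ v, T v = v → v = 0)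
    (htrans : ∀ v w : V, v ≠ 0 → w ≠ 0 →
      ∃ (f : V ≃+ V) (i : ℕ), (∀ x, f (T x) = (T ^ i) (f x)) ∧ f v = w)
    (hpow : ∀ i : ℕ, 0 < i → i < q → ∃ f : V ≃+ V, ∀ x, f (T x) = (T ^ i) (f x)) :
    orderOf (p : ZMod q) = q - 1 := by
  classical
  have hΦ : ∀ v, cyclotomic q (ZMod p) ∈ annPoly T v := fun v => by
    rw [mem_annPoly, aeval_cyclotomic_eq_zero T hT hfpf, LinearMap.zero_apply]
  have hne : ∀ v : V, v ≠ 0 → annPoly T v ≠ ⊤ := fun v hv h => by
    have : (1 : (ZMod p)[X]) ∈ annPoly T v := h ▸ Submodule.mem_top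
    rw [mem_annPoly, map_one, Module.End.one_apply] at this
    exact hv this
  obtain ⟨_, ⟨v0, hv0, rfl⟩, hmax0⟩ := set_has_maximal_iff_noetherian.mpr inferInstance
    (annPoly T '' {v : V | v ≠ 0}) ((exists_ne (0 : V)).elim fun v hv => ⟨_, v, hv, rfl⟩)
  have hprime0 : (annPoly T v0).IsPrime := by
    refine ⟨hne v0 hv0, fun {a b} hab => or_iff_not_imp_left.mpr fun ha => ?_⟩
    have hle : annPoly T v0 ≤ annPoly T (aeval T a v0) := fun h hh => by
      rw [mem_annPoly, ← Module.End.mul_apply, ← map_mul, mul_comm, map_mul, Module.End.mul_apply,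
        hh, map_zero]
    have heq : annPoly T v0 = annPoly T (aeval T a v0) :=
      eq_of_le_of_not_lt hle (hmax0 _ ⟨_, ha, rfl⟩)
    rw [heq, mem_annPoly, ← Module.End.mul_apply, ← map_mul, mul_comm]
    exact hab
  have hprime : ∀ v : V, v ≠ 0 → (annPoly T v).IsPrime := by
    intro v hv
    obtain ⟨f, i, hf, hfv⟩ := htrans v v0 hv hv0
    have : annPoly T v =
        (annPoly T v0).comap (compRingHom (X ^ i : (ZMod p)[X])) := by
      ext h
      rw [Ideal.mem_comap, coe_compRingHom_apply, mem_annPoly, mem_annPoly, ← hfv,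
        ← aeval_pow_intertwine f T i hf, map_eq_zero_iff f f.injective]
    rw [this]
    exact Ideal.comap_isPrime _ _
  have hbot : ∀ v, annPoly T v ≠ ⊥ := fun v h =>
    cyclotomic_ne_zero q (ZMod p) (by simpa [h] using hΦ v)
  have hall : ∀ v, annPoly T v0 ≤ annPoly T v := by
    intro v
    by_cases hv : v = 0
    · intro h _; simp [mem_annPoly, hv]
    by_contra hle
    obtain ⟨a, ha0, hav⟩ := SetLike.not_le_iff_exists.mp hle
    have hmv : (annPoly T v).IsMaximal := @IsPrime.to_maximal_ideal _ _ _ _ (annPoly T v) (hprime v hv) (hbot v)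
    obtain ⟨b, hbv, hb0⟩ := SetLike.not_le_iff_exists.mp (show ¬ annPoly T v ≤ annPoly T v0 from
      fun h => hle (le_of_eq (hmv.eq_of_le (hne v0 hv0) h).symm))
    have hw : v + v0 ≠ 0 := fun h => hle fun x hx => by
      rw [eq_neg_of_add_eq_zero_left h, mem_annPoly, map_neg, (mem_annPoly.mp hx), neg_zero]
    have hab : a * b ∈ annPoly T (v + v0) := by
      have h1 : aeval T (a * b) v = 0 := by rw [map_mul, Module.End.mul_apply, hbv, map_zero]
      have h2 : aeval T (a * b) v0 = 0 := by
        rw [mul_comm, map_mul, Module.End.mul_apply, ha0, map_zero]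
      rw [mem_annPoly, map_add, h1, h2, add_zero]
    rcases (hprime _ hw).mem_or_mem hab with h | h
    · rw [mem_annPoly, map_add, ha0, add_zero] at h
      exact hav h
    · rw [mem_annPoly, map_add, hbv, zero_add] at h
      exact hb0 h
  obtain ⟨g, hg⟩ := (IsPrincipalIdealRing.principal (annPoly T v0)).principal
  have hg' : annPoly T v0 = Ideal.span {g} := hg
  have hg0 : g ≠ 0 := fun h => hbot v0 (by simp [hg', h])
  have hgirr : Irreducible g :=
    ((Ideal.span_singleton_prime hg0).mp (hg' ▸ hprime0)).irreducible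
  have hgΦ : g ∣ cyclotomic q (ZMod p) := Ideal.mem_span_singleton.mp (hg' ▸ hΦ v0)
  have hdeg : g.natDegree = orderOf (p : ZMod q) := by
    rw [natDegree_of_dvd_cyclotomic_of_irreducible (K := ZMod p) (f := 1) (p := p) (by simp)
      ((Fact.out : p.Prime).coprime_iff_not_dvd.mpr (not_dvd_of_ne hpq)) hgΦ hgirr, ← orderOf_units,
      ZMod.coe_unitOfCoprime, pow_one]
  have hgi : ∀ i : ℕ, 0 < i → i < q → g ∣ g.comp (X ^ i) := by
    intro i hi hiq
    obtain ⟨f, hf⟩ := hpow i hi hiq
    rw [← Ideal.mem_span_singleton, ← hg', mem_annPoly]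
    obtain ⟨w, rfl⟩ := f.surjective v0
    rw [← aeval_pow_intertwine f T i hf]
    have : g ∈ annPoly T w := hall w (hg' ▸ Ideal.mem_span_singleton_self g)
    rw [mem_annPoly.mp this, map_zero]
  have := Fact.mk hgirr
  have : NeZero (q : AdjoinRoot g) := by
    suffices NeZero (q : ZMod p) by
      simpa using! NeZero.of_injective (algebraMap (ZMod p) (AdjoinRoot g)).injective
    exact ⟨fun h => not_dvd_of_ne hpq ((ZMod.natCast_eq_zero_iff q p).mp h)⟩
  have hζ : IsPrimitiveRoot (AdjoinRoot.root g) q := by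
    simpa [← isRoot_cyclotomic_iff] using! (AdjoinRoot.isRoot_root g).dvd
      (by simpa using! map_dvd (algebraMap (ZMod p) (AdjoinRoot g)) hgΦ)
  have hgm : g.map (algebraMap (ZMod p) (AdjoinRoot g)) ≠ 0 := Polynomial.map_ne_zero hg0
  have hroots : ((Finset.Ico 1 q).image fun i => AdjoinRoot.root g ^ i) ⊆
      (g.map (algebraMap (ZMod p) (AdjoinRoot g))).roots.toFinset := by
    intro z hz
    obtain ⟨i, hi, rfl⟩ := Finset.mem_image.mp hz
    rw [Finset.mem_Ico] at hi
    rw [Multiset.mem_toFinset, mem_roots hgm, IsRoot.def, eval_map_algebraMap]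
    have h := aeval_eq_zero_of_dvd_aeval_eq_zero (hgi i hi.1 hi.2)
      (show aeval (AdjoinRoot.root g) g = 0 by rw [AdjoinRoot.aeval_eq, AdjoinRoot.mk_self])
    rwa [aeval_comp, map_pow, aeval_X] at h
  have h1 : q - 1 ≤ g.natDegree := by
    have := (Finset.card_le_card hroots).trans
      ((Multiset.toFinset_card_le _).trans ((card_roots' _).trans natDegree_map_le))
    rwa [Finset.card_image_of_injOn, Nat.card_Ico] at this
    intro i hi j hj hij
    exact hζ.pow_inj (Finset.mem_Ico.mp hi).2 (Finset.mem_Ico.mp hj).2 hij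
  have h2 : g.natDegree ≤ q - 1 := by
    rw [← Nat.totient_prime (Fact.out : q.Prime), ← natDegree_cyclotomic q (ZMod p)]
    exact natDegree_le_of_dvd hgΦ (cyclotomic_ne_zero q _)
  omega

end CfsgLib.ThreeOrbit
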