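/-
Groups with three orbits of automorphisms (Laffey–MacHale): group-theoretic part.
-/
import Cfsg.Agent.Lib.ThreeOrbit.Field
import Cfsg.Agent.S0144

set_option autoImplicit false

namespace CfsgLib.ThreeOrbit

open scoped IsMulCommutative
open scoped commutatorElement

universe u

variable {G : Type u} [Group G]

/-- An automorphism built from a compatible pair on a normal subgroup and a cyclic complement. -/
theorem exists_aut_of_pair [Finite G] {N : Subgroup G} [N.Normal] {x : G}
    (hc : N.IsComplement' (Subgroup.zpowers x)) (f : N ≃* N) (i : ℕ)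
    (hi : Nat.Coprime (orderOf x) i)
    (hf : ∀ (a : N) (b : N), (b : G) = x * a * x⁻¹ → (f b : G) = x ^ i * f a * (x ^ i)⁻¹) :
    ∃ φ : MulAut G, (∀ a : N, φ a = f a) ∧ φ x = x ^ i := by
  classical
  let e := Equiv.ofBijective _ hc
  let φ0 : G → G := fun g => (f (e.symm g).1 : G) * (((e.symm g).2 : Subgroup.zpowers x) : G) ^ i
  have hval : ∀ (a : N) (c : Subgroup.zpowers x), φ0 (a * c) = f a * (c : G) ^ i := by
    intro a c
    have : e.symm ((a : G) * c) = (a, c) := e.symm_apply_eq.mpr rfl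
    simp only [φ0, this]
  have hfk : ∀ (k : ℕ) (a b : N), (b : G) = x ^ k * a * (x ^ k)⁻¹ →
      (f b : G) = (x ^ k) ^ i * f a * ((x ^ k) ^ i)⁻¹ := by
    intro k
    induction k with
    | zero =>
      intro a b h
      have : b = a := Subtype.ext (by simpa using h)
      subst this
      simp
    | succ k ih =>
      intro a b h
      let m : N := ⟨x ^ k * a * (x ^ k)⁻¹, Subgroup.Normal.conj_mem ‹_› _ a.2 _⟩
      have h1 := hf m b (by rw [h]; simp only [m, pow_succ']; group)
      rw [h1, ih a m rfl, ← pow_mul, ← pow_mul, add_mul, one_mul, pow_add,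
        Commute.pow_pow_self x (k * i) i |>.eq]
      group
  have hmul : ∀ g h : G, φ0 (g * h) = φ0 g * φ0 h := by
    intro g h
    obtain ⟨⟨a, c⟩, rfl⟩ := e.surjective g
    obtain ⟨⟨b, d⟩, rfl⟩ := e.surjective h
    obtain ⟨k, hk⟩ := (isOfFinOrder_of_finite x).mem_zpowers_iff_mem_range_orderOf.mp c.2
      |> Finset.mem_image.mp
    let m : N := ⟨(c : G) * b * (c : G)⁻¹, Subgroup.Normal.conj_mem ‹_› _ b.2 _⟩
    have h1 : e (a, c) * e (b, d) = ((a * m : N) : G) * ((c * d : Subgroup.zpowers x) : G) := by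
      show (a : G) * c * ((b : G) * d) = (a : G) * (c * b * (c : G)⁻¹) * ((c : G) * d)
      group
    have hm : (f m : G) = ((c : G)) ^ i * f b * ((c : G) ^ i)⁻¹ := by
      rw [← hk.2]
      exact hfk k b m (by simp only [m, ← hk.2])
    have hcd : ((c : G) * d) ^ i = (c : G) ^ i * (d : G) ^ i := by
      have : c * d = d * c := by
        obtain ⟨j, hj⟩ := c.2
        obtain ⟨j', hj'⟩ := d.2
        apply Subtype.ext
        show (c : G) * d = d * c
        rw [← hj, ← hj']
        exact (Commute.zpow_zpow_self x j j').eq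
      exact (show Commute (c : G) d from congrArg Subtype.val this).mul_pow i
    show φ0 (e (a, c) * e (b, d)) = φ0 ((a : G) * c) * φ0 ((b : G) * d)
    rw [h1, hval, hval, hval, map_mul, Subgroup.coe_mul, Subgroup.coe_mul, hcd, hm]
    group
  let φ : G →* G := MonoidHom.mk' φ0 hmul
  have hinj : Function.Injective φ := by
    rw [injective_iff_map_eq_one]
    intro g hg
    obtain ⟨⟨a, c⟩, rfl⟩ := e.surjective g
    change φ0 ((a : G) * c) = 1 at hg
    rw [hval] at hg
    have hmem : (f a : G) ∈ N ⊓ Subgroup.zpowers x := by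
      refine Subgroup.mem_inf.mpr ⟨(f a).2, ?_⟩
      rw [eq_inv_of_mul_eq_one_left hg]
      exact inv_mem (pow_mem c.2 i)
    rw [hc.disjoint.eq_bot, Subgroup.mem_bot] at hmem
    have ha : a = 1 := f.injective (by rw [map_one]; exact Subtype.ext hmem)
    rw [hmem, one_mul] at hg
    have hc1 : (c : G) = 1 := by
      have h1 : orderOf (c : G) ∣ i := orderOf_dvd_of_pow_eq_one hg
      have h2 : orderOf (c : G) ∣ orderOf x := by
        obtain ⟨j, hj⟩ := c.2
        rw [← hj]
        exact orderOf_dvd_of_pow_eq_one (by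
          simp only [← zpow_natCast, ← zpow_mul, mul_comm j]
          rw [zpow_mul, zpow_natCast, pow_orderOf_eq_one, one_zpow])
      exact orderOf_eq_one_iff.mp (Nat.eq_one_of_dvd_coprimes hi h2 h1)
    show (a : G) * c = 1
    rw [ha, hc1, Subgroup.coe_one, mul_one]
  refine ⟨MulEquiv.ofBijective φ ((Finite.injective_iff_bijective).mp hinj), fun a => ?_, ?_⟩
  · have := hval a 1
    rwa [Subgroup.coe_one, mul_one, one_pow, mul_one] at this
  · have := hval 1 ⟨x, Subgroup.mem_zpowers x⟩
    rwa [Subgroup.coe_one, one_mul, map_one, Subgroup.coe_one, one_mul] at this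

theorem exp_nsmul (p : ℕ) (N : Subgroup G) [IsMulCommutative N] (hexp : ∀ a ∈ N, a ^ p = 1)
    (v : Additive N) : p • v = 0 := by
  apply Additive.toMul.injective
  rw [toMul_nsmul, toMul_zero]
  exact Subtype.ext (hexp _ (Additive.toMul v).2)

/-- An abelian group of exponent `p` as a vector space. -/
noncomputable abbrev expModule (p : ℕ) (N : Subgroup G) [IsMulCommutative N]
    (hexp : ∀ v : Additive N, p • v = 0) : Module (ZMod p) (Additive N) :=
  AddCommGroup.zmodModule hexp

/-- The linear map given by conjugation on an abelian normal subgroup of prime exponent. -/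
noncomputable def conjEnd (p : ℕ) (N : Subgroup G) [N.Normal] [IsMulCommutative N]
    [Module (ZMod p) (Additive N)] (x : G) : Module.End (ZMod p) (Additive N) :=
  (MonoidHom.toAdditive ((MulAut.conjNormal x : MulAut N) : N →* N)).toZModLinearMap p

variable {p q : ℕ}

theorem conjEnd_apply (N : Subgroup G) [N.Normal] [IsMulCommutative N]
    [Module (ZMod p) (Additive N)] (x : G) (v : Additive N) :
    ((Additive.toMul (conjEnd p N x v) : N) : G) = x * (Additive.toMul v : N) * x⁻¹ := rfl

theorem conjEnd_pow (N : Subgroup G) [N.Normal] [IsMulCommutative N]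
    [Module (ZMod p) (Additive N)] (x : G) (n : ℕ) (v : Additive N) :
    ((Additive.toMul ((conjEnd p N x ^ n) v) : N) : G) =
      x ^ n * (Additive.toMul v : N) * (x ^ n)⁻¹ := by
  induction n with
  | zero => simp
  | succ n ih =>
    rw [pow_succ', Module.End.mul_apply, conjEnd_apply, ih, pow_succ']
    group

theorem conjEnd_comp (N : Subgroup G) [N.Normal] [IsMulCommutative N]
    [Module (ZMod p) (Additive N)] (x y : G) :
    conjEnd p N (x * y) = conjEnd p N x * conjEnd p N y := by
  refine LinearMap.ext fun v => Additive.toMul.injective (Subtype.ext ?_)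
  rw [Module.End.mul_apply, conjEnd_apply, conjEnd_apply, conjEnd_apply]
  group

theorem conjEnd_zpow_facts (N : Subgroup G) [N.Normal] [IsMulCommutative N]
    [Module (ZMod p) (Additive N)] (x : G) (hx : x ^ q = 1) : conjEnd p N x ^ q = 1 :=
  LinearMap.ext fun v => Additive.toMul.injective (Subtype.ext (by
    rw [conjEnd_pow, hx]; simp))

theorem conjEnd_fpf (N : Subgroup G) [N.Normal] [IsMulCommutative N]
    [Module (ZMod p) (Additive N)] (x : G) (h : ∀ y ∈ N, x * y * x⁻¹ = y → y = 1)
    (v : Additive N) (hv : conjEnd p N x v = v) : v = 0 := by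
  have := h _ (Additive.toMul v).2 (by rw [← conjEnd_apply (p := p), hv])
  exact Additive.toMul.injective (Subtype.ext this)

/-- The converse direction: such a group has exactly three orbits. -/
theorem card_orbits_eq_three [Finite G] [Fact p.Prime] [Fact q.Prime] (hpq : p ≠ q) (N : Subgroup G)
    [N.Normal] [IsMulCommutative N] (hexp : ∀ a ∈ N, a ^ p = 1) (hN : N ≠ ⊥) {x : G}
    (hx : orderOf x = q) (hc : N.IsComplement' (Subgroup.zpowers x))
    (hord : orderOf (p : ZMod q) = q - 1) (hfpf : ∀ y ∈ N, x * y * x⁻¹ = y → y = 1) :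
    Nat.card (MulAction.orbitRel.Quotient (MulAut G) G) = 3 := by
  classical
  have hp : p.Prime := Fact.out
  have hq : q.Prime := Fact.out
  have hexp' := exp_nsmul p N hexp
  letI := expModule p N hexp'
  set T := conjEnd p N x
  have hxq : x ^ q = 1 := by rw [← hx, pow_orderOf_eq_one]
  have hfpfi : ∀ i, ¬ q ∣ i → ∀ y ∈ N, x ^ i * y * (x ^ i)⁻¹ = y → y = 1 := by
    intro i hi y hy h
    have hco : (orderOf x).Coprime i := hx ▸ hq.coprime_iff_not_dvd.mpr hi
    obtain ⟨m, hm⟩ := exists_pow_eq_self_of_coprime hco.symm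
    have hcomm : Commute (x ^ i) y := mul_inv_eq_iff_eq_mul.mp h
    have := hcomm.pow_left m
    rw [hm] at this
    exact hfpf y hy (mul_inv_eq_iff_eq_mul.mpr this)
  have hmove : ∀ i, 0 < i → i < q → (∃ φ : MulAut G, φ x = x ^ i) ∧
      (i = 1 → ∀ a b : N, a ≠ 1 → b ≠ 1 → ∃ φ : MulAut G, φ a = b) := by
    intro i hi hiq
    have hnd : ¬ q ∣ i := fun h => (Nat.le_of_dvd hi h).not_gt hiq
    obtain ⟨⟨f, hf⟩, hf2⟩ := exists_intertwiner hpq hord T (conjEnd p N (x ^ i))
      (conjEnd_zpow_facts N x hxq) (conjEnd_fpf N x hfpf)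
      (conjEnd_zpow_facts N _ (by rw [← pow_mul, mul_comm, pow_mul, hxq, one_pow]))
      (conjEnd_fpf N _ (hfpfi i hnd))
    have hco : (orderOf x).Coprime i := hx ▸ hq.coprime_iff_not_dvd.mpr hnd
    have mk : ∀ f : Additive N ≃+ Additive N, (∀ v : Additive N, f (T v) = conjEnd p N (x ^ i) (f v)) →
        ∃ φ : MulAut G, (∀ a : N, φ a = (Additive.toMul (f (Additive.ofMul a)) : N)) ∧ φ x = x ^ i := by
      intro f hf
      refine exists_aut_of_pair hc (MulEquiv.toAdditive.symm f) i hco ?_
      intro a b hab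
      have : b = (Additive.toMul (T (Additive.ofMul a)) : N) := Subtype.ext (by rw [hab, conjEnd_apply]; rfl)
      rw [this]
      show ((Additive.toMul (f (T (Additive.ofMul a))) : N) : G) = _
      rw [hf, conjEnd_apply]
      rfl
    obtain ⟨φ, -, hφ⟩ := mk f hf
    refine ⟨⟨φ, hφ⟩, fun _ a b ha hb => ?_⟩
    obtain ⟨g, hg, hgab⟩ := hf2 (Additive.ofMul a) (Additive.ofMul b) ha hb
    obtain ⟨ψ, hψ, -⟩ := mk g hg
    exact ⟨ψ, by rw [hψ, hgab]; rfl⟩
  have hout : ∀ g : G, g ∉ N → ∃ φ : MulAut G, φ x = g := by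
    intro g hg
    obtain ⟨⟨a, c⟩, rfl⟩ := (Equiv.ofBijective _ hc).surjective g
    obtain ⟨i, hi, hic⟩ := Finset.mem_image.mp
      ((isOfFinOrder_of_finite x).mem_zpowers_iff_mem_range_orderOf.mp c.2)
    rw [hx, Finset.mem_range] at hi
    have hi0 : 0 < i := by
      refine Nat.pos_of_ne_zero ?_
      rintro rfl
      apply hg
      show (a : G) * c ∈ N
      rw [← hic, pow_zero, mul_one]
      exact a.2
    have hnd : ¬ q ∣ i := fun h => (Nat.le_of_dvd hi0 h).not_gt hi
    obtain ⟨φ, hφ⟩ := (hmove i hi0 hi).1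
    let κ : N → N := fun b => ⟨(b : G) * ((c : G) * (b : G)⁻¹ * (c : G)⁻¹),
      N.mul_mem b.2 (Subgroup.Normal.conj_mem ‹_› _ (N.inv_mem b.2) _)⟩
    have hκ : Function.Injective κ := by
      intro b b' h
      have h' : (b : G) * c * (b : G)⁻¹ = (b' : G) * c * (b' : G)⁻¹ := by
        have := congrArg Subtype.val h
        simp only [κ, ← mul_assoc] at this
        exact mul_right_cancel this
      have h'' : (c : G) * ((b' : G)⁻¹ * b) * (c : G)⁻¹ = (b' : G)⁻¹ * b := by
        calc (c : G) * ((b' : G)⁻¹ * b) * (c : G)⁻¹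
            = (b' : G)⁻¹ * ((b' : G) * c * (b' : G)⁻¹) * b * (c : G)⁻¹ := by group
          _ = (b' : G)⁻¹ * ((b : G) * c * (b : G)⁻¹) * b * (c : G)⁻¹ := by rw [h']
          _ = _ := by group
      rw [← hic] at h''
      exact (Subtype.ext (inv_mul_eq_one.mp
        (hfpfi i hnd _ (N.mul_mem (N.inv_mem b'.2) b.2) h''))).symm
    obtain ⟨b, hb⟩ := (Finite.injective_iff_surjective.mp hκ) a
    refine ⟨MulAut.conj (b : G) * φ, ?_⟩
    show (b : G) * φ x * (b : G)⁻¹ = (a : G) * c
    rw [hφ, hic, ← hb]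
    simp only [κ]
    group
  have hxN : x ∉ N := fun h => by
    have : x ∈ N ⊓ Subgroup.zpowers x := ⟨h, Subgroup.mem_zpowers x⟩
    rw [hc.disjoint.eq_bot, Subgroup.mem_bot] at this
    rw [this, orderOf_one] at hx
    exact hq.ne_one hx.symm
  have hoN : ∀ g : G, g ∈ N → g ≠ 1 → orderOf g = p := fun g hg h1 => orderOf_eq_prime (hexp g hg) h1
  have hoO : ∀ g : G, g ∉ N → orderOf g = q := fun g hg => by
    obtain ⟨φ, rfl⟩ := hout g hg
    rw [MulEquiv.orderOf_eq, hx]
  let F : MulAction.orbitRel.Quotient (MulAut G) G → ℕ := Quotient.lift orderOf fun a b h => by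
    obtain ⟨φ, rfl⟩ := (MulAction.orbitRel_apply.mp h)
    exact MulEquiv.orderOf_eq φ b
  have hinj : Function.Injective F := by
    intro o o' h
    induction o using Quotient.inductionOn with
    | h a =>
    induction o' using Quotient.inductionOn with
    | h b =>
    change orderOf a = orderOf b at h
    apply Quotient.sound
    by_cases ha : a ∈ N
    · by_cases hb : b ∈ N
      · by_cases ha1 : a = 1
        · subst ha1
          rw [orderOf_one, eq_comm, orderOf_eq_one_iff] at h
          subst h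
          exact ⟨1, rfl⟩
        · have hb1 : b ≠ 1 := fun e => by
            rw [e, orderOf_one] at h; exact ha1 (orderOf_eq_one_iff.mp h)
          obtain ⟨φ, hφ⟩ := (hmove 1 one_pos hq.one_lt).2 rfl ⟨b, hb⟩ ⟨a, ha⟩
            (fun e => hb1 (congrArg Subtype.val e)) (fun e => ha1 (congrArg Subtype.val e))
          exact ⟨φ, hφ⟩
      · rw [hoO b hb] at h
        by_cases ha1 : a = 1
        · rw [ha1, orderOf_one] at h; exact absurd h.symm hq.ne_one
        · rw [hoN a ha ha1] at h; exact absurd h hpq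
    · rw [hoO a ha] at h
      by_cases hb : b ∈ N
      · by_cases hb1 : b = 1
        · rw [hb1, orderOf_one] at h; exact absurd h hq.ne_one
        · rw [hoN b hb hb1] at h; exact absurd h.symm hpq
      · obtain ⟨φ, hφ⟩ := hout a ha
        obtain ⟨ψ, hψ⟩ := hout b hb
        exact ⟨φ * ψ⁻¹, show φ (ψ⁻¹ b) = a by rw [← hψ, MulAut.inv_apply_self, hφ]⟩
  have hrange : Set.range F = {1, p, q} := by
    ext k
    constructor
    · rintro ⟨o, rfl⟩
      induction o using Quotient.inductionOn with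
      | h a =>
      show orderOf a ∈ _
      by_cases ha : a ∈ N
      · by_cases ha1 : a = 1
        · simp [ha1]
        · simp [hoN a ha ha1]
      · simp [hoO a ha]
    · rintro (rfl | rfl | rfl)
      · exact ⟨Quotient.mk _ 1, orderOf_one⟩
      · obtain ⟨a, ha, ha1⟩ := (Subgroup.bot_or_exists_ne_one N).resolve_left hN
        exact ⟨Quotient.mk _ a, hoN a ha ha1⟩
      · exact ⟨Quotient.mk _ x, hx⟩
  rw [← Nat.card_range_of_injective hinj, hrange, Nat.card_coe_set_eq,
    Set.ncard_eq_three]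
  exact ⟨1, p, q, hp.ne_one.symm, hq.ne_one.symm, hpq, rfl⟩

/-- Two commuting operators of prime order all of whose combinations are fixed-point-free. -/
theorem false_of_rank_two [Fact p.Prime] [Fact q.Prime] {V : Type u} [AddCommGroup V]
    [Module (ZMod p) V] [Nontrivial V] (hpq : p ≠ q) (T U : Module.End (ZMod p) V)
    (hTU : Commute T U) (hT : T ^ q = 1) (hU : U ^ q = 1) (_hTf : ∀ v, T v = v → v = 0)
    (hUf : ∀ v, U v = v → v = 0) (h : ∀ a < q, ∀ v, (T * U ^ a) v = v → v = 0) : False := by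
  have hq : q.Prime := Fact.out
  have hsum : ∀ S : Module.End (ZMod p) V, S ^ q = 1 → (∀ v, S v = v → v = 0) →
      ∑ k ∈ Finset.range q, S ^ k = 0 := by
    intro S h1 h2
    have := aeval_cyclotomic_eq_zero S h1 h2
    simpa [Polynomial.cyclotomic_prime, map_sum] using this
  have hUk : ∀ k, ¬ q ∣ k → ∀ v, (U ^ k) v = v → v = 0 := by
    intro k hk v hv
    refine hUf v ?_
    obtain ⟨m, -, hm⟩ := Nat.exists_mul_mod_eq_one_of_coprime
      ((hq.coprime_iff_not_dvd.mpr hk).symm) hq.one_lt
    have h1 : ∀ n : ℕ, ((U ^ k) ^ n) v = v := fun n => by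
      induction n with
      | zero => simp
      | succ n ih => rw [pow_succ, Module.End.mul_apply, hv, ih]
    have h2 : (U ^ k) ^ m = U := by
      rw [← pow_mul, ← Nat.mod_add_div (k * m) q, hm, pow_add, pow_mul, hU, one_pow, mul_one,
        pow_one]
    have := h1 m
    rwa [h2] at this
  have hz : ∑ a ∈ Finset.range q, ∑ k ∈ Finset.range q, T ^ k * U ^ (a * k) = 0 := by
    refine Finset.sum_eq_zero fun a ha => ?_
    rw [← hsum (T * U ^ a) ?_ (h a (Finset.mem_range.mp ha))]
    · refine Finset.sum_congr rfl fun k _ => ?_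
      rw [(hTU.pow_right a).mul_pow, ← pow_mul]
    · rw [(hTU.pow_right a).mul_pow, hT, one_mul, ← pow_mul, mul_comm, pow_mul, hU, one_pow]
  rw [Finset.sum_comm, Finset.sum_eq_single 0] at hz
  · obtain ⟨v, hv⟩ := exists_ne (0 : V)
    have h1 : (q : ZMod p) • v = 0 := by
      simp only [pow_zero, mul_zero, mul_one, Finset.sum_const, Finset.card_range] at hz
      have := LinearMap.congr_fun hz v
      rw [LinearMap.smul_apply, Module.End.one_apply, LinearMap.zero_apply] at this
      rw [Nat.cast_smul_eq_nsmul]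
      exact this
    rcases smul_eq_zero.mp h1 with h2 | h2
    · exact not_dvd_of_ne hpq ((ZMod.natCast_eq_zero_iff q p).mp h2)
    · exact hv h2
  · intro k hk hk0
    have hnd : ¬ q ∣ k := fun hd =>
      (Nat.le_of_dvd (Nat.pos_of_ne_zero hk0) hd).not_gt (Finset.mem_range.mp hk)
    rw [← Finset.mul_sum]
    have := hsum (U ^ k) (by rw [← pow_mul, mul_comm, pow_mul, hU, one_pow]) (hUk k hnd)
    simp_rw [← pow_mul, mul_comm k] at this
    rw [this, mul_zero]
  · intro h0; exact absurd (Finset.mem_range.mpr hq.pos) h0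

/-- The structure of a group with three orbits which is not a `p`-group. -/
theorem structure_of_three_orbits [Finite G]
    (hnpp : ¬ IsPrimePow (Nat.card G)) (hnt : Nat.card G ≠ 1)
    (h3 : Nat.card (MulAction.orbitRel.Quotient (MulAut G) G) = 3) :
    ∃ (p q : ℕ) (_ : Fact p.Prime) (_ : Fact q.Prime) (N : Subgroup G), N.Normal ∧ p ≠ q ∧
      IsPGroup p N ∧ N ≠ ⊥ ∧ IsMulCommutative N ∧ (∀ a ∈ N, a ^ p = 1) ∧ N.index = q ∧
      orderOf (p : ZMod q) = q - 1 ∧
      ∀ x y : G, orderOf x = q → orderOf y = p → x * y * x⁻¹ ≠ y := by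
  classical
  obtain ⟨r, hr⟩ : ∃ r, r.Prime ∧ r ∣ Nat.card G := Nat.exists_prime_and_dvd hnt
  obtain ⟨s, hs, hsd, hsr⟩ : ∃ s, s.Prime ∧ s ∣ Nat.card G ∧ s ≠ r := by
    by_contra hcon
    push Not at hcon
    exact hnpp (isPrimePow_iff_unique_prime_dvd.mpr ⟨r, hr, fun d hd => hcon d hd.1 hd.2⟩)
  have := Fact.mk hr.1
  have := Fact.mk hs
  obtain ⟨a, ha⟩ := exists_prime_orderOf_dvd_card' r hr.2
  obtain ⟨b, hb⟩ := exists_prime_orderOf_dvd_card' s hsd
  have _ := Fintype.ofFinite (MulAction.orbitRel.Quotient (MulAut G) G)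
  have hinv : ∀ g h : G, (Quotient.mk (MulAction.orbitRel (MulAut G) G) g) = Quotient.mk _ h →
      orderOf g = orderOf h := by
    intro g h e
    obtain ⟨φ, rfl⟩ := MulAction.orbitRel_apply.mp (Quotient.exact e)
    exact MulEquiv.orderOf_eq φ h
  have hrep : ∀ g : G, Quotient.mk (MulAction.orbitRel (MulAut G) G) g ∈
      ({Quotient.mk _ 1, Quotient.mk _ a, Quotient.mk _ b} :
        Finset (MulAction.orbitRel.Quotient (MulAut G) G)) := by
    intro g
    have hcard : ({Quotient.mk _ 1, Quotient.mk _ a, Quotient.mk _ b} :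
        Finset (MulAction.orbitRel.Quotient (MulAut G) G)).card = 3 := by
      rw [Finset.card_eq_three]
      refine ⟨_, _, _, fun e => ?_, fun e => ?_, fun e => ?_, rfl⟩
      · exact hr.1.ne_one (ha ▸ (orderOf_one (G := G) ▸ hinv _ _ e).symm)
      · exact hs.ne_one (hb ▸ (orderOf_one (G := G) ▸ hinv _ _ e).symm)
      · exact hsr (hb ▸ ha ▸ (hinv _ _ e).symm)
    have huniv := Finset.eq_univ_of_card
      ({Quotient.mk _ 1, Quotient.mk _ a, Quotient.mk _ b} :
        Finset (MulAction.orbitRel.Quotient (MulAut G) G))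
      (by rw [hcard, ← h3, Nat.card_eq_fintype_card])
    rw [huniv]
    exact Finset.mem_univ _
  have horb : ∀ g : G, g = 1 ∨ (∃ φ : MulAut G, φ a = g) ∨ ∃ φ : MulAut G, φ b = g := by
    intro g
    have := hrep g
    simp only [Finset.mem_insert, Finset.mem_singleton] at this
    rcases this with e | e | e
    · obtain ⟨φ, hφ⟩ := MulAction.orbitRel_apply.mp (Quotient.exact e)
      exact Or.inl (by rw [← hφ]; exact map_one φ)
    · exact Or.inr (Or.inl (MulAction.orbitRel_apply.mp (Quotient.exact e)))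
    · exact Or.inr (Or.inr (MulAction.orbitRel_apply.mp (Quotient.exact e)))
  have hsol : Group.IsSolvable G := by
    have hall : ∀ d : ℕ, d.Prime → d ∣ Nat.card G → d = r ∨ d = s := by
      intro d hd hdd
      have := Fact.mk hd
      obtain ⟨c, hc⟩ := exists_prime_orderOf_dvd_card' d hdd
      rcases horb c with e | ⟨φ, e⟩ | ⟨φ, e⟩
      · rw [e, orderOf_one] at hc; exact absurd hc.symm hd.ne_one
      · rw [← e, MulEquiv.orderOf_eq, ha] at hc; exact Or.inl hc.symm
      · rw [← e, MulEquiv.orderOf_eq, hb] at hc; exact Or.inr hc.symm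
    refine Cfsg.Agent.S0144.aux r s hr.1 hs _ G rfl
      ⟨(Nat.card G).factorization r, (Nat.card G).factorization s, dvd_of_eq ?_⟩
    refine (Nat.eq_of_factorization_eq Nat.card_pos.ne'
      (mul_ne_zero (pow_ne_zero _ hr.1.ne_zero) (pow_ne_zero _ hs.ne_zero)) fun d => ?_)
    rw [Nat.factorization_mul (pow_ne_zero _ hr.1.ne_zero) (pow_ne_zero _ hs.ne_zero),
      hr.1.factorization_pow, hs.factorization_pow, Finsupp.add_apply, Finsupp.single_apply,
      Finsupp.single_apply]
    by_cases hd : d.Prime ∧ d ∣ Nat.card G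
    · rcases hall d hd.1 hd.2 with rfl | rfl
      · simp [hsr]
      · simp [Ne.symm hsr]
    · have h0 : (Nat.card G).factorization d = 0 := by
        rcases not_and_or.mp hd with h | h
        · exact Nat.factorization_eq_zero_of_not_prime _ h
        · exact Nat.factorization_eq_zero_of_not_dvd h
      split_ifs with h1 h2 h2 <;> subst_vars <;> simp_all
  set N := commutator G
  have hNtop : N ≠ ⊤ := fun h => by
    have : Nontrivial G := Finite.one_lt_card_iff_nontrivial.mp
      (lt_of_le_of_ne Nat.card_pos (Ne.symm hnt))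
    exact (Group.IsSolvable.commutator_lt_top_of_nontrivial G).ne h
  have hchar : ∀ (φ : MulAut G) (g : G), g ∈ N → φ g ∈ N := fun φ g hg => by
    have : N.map (φ : G →* G) ≤ N := by
      rw [show N = ⁅(⊤ : Subgroup G), ⊤⁆ from rfl, Subgroup.map_commutator]
      exact Subgroup.commutator_mono le_top le_top
    exact this (Subgroup.mem_map_of_mem _ hg)
  have hNbot : N ≠ ⊥ := by
    intro h
    have hcomm : Commute a b := by
      have : ⁅a, b⁆ ∈ N := Subgroup.commutator_mem_commutator (Subgroup.mem_top a) (Subgroup.mem_top b)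
      rw [h, Subgroup.mem_bot] at this
      exact commutatorElement_eq_one_iff_mul_comm.mp this
    have hab : orderOf (a * b) = r * s := by
      rw [hcomm.orderOf_mul_eq_mul_orderOf_of_coprime, ha, hb]
      rw [ha, hb]; exact (Nat.coprime_primes hr.1 hs).mpr (Ne.symm hsr)
    rcases horb (a * b) with e | ⟨φ, e⟩ | ⟨φ, e⟩
    · rw [e, orderOf_one] at hab; exact hr.1.ne_one (Nat.eq_one_of_dvd_one ⟨s, hab⟩)
    · rw [← e, MulEquiv.orderOf_eq, ha] at hab
      exact hs.ne_one (by simpa [hr.1.ne_zero] using hab)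
    · rw [← e, MulEquiv.orderOf_eq, hb] at hab
      exact hr.1.ne_one (by simpa [hs.ne_zero] using hab)
  clear hsol hrep hinv
  -- the derived subgroup meets exactly one of the two classes
  obtain ⟨p, q, α, β, hp, hq, hpq, hα, hβ, hαN, hβN, horb'⟩ :
      ∃ (p q : ℕ) (α β : G), p.Prime ∧ q.Prime ∧ p ≠ q ∧ orderOf α = p ∧ orderOf β = q ∧ α ∈ N ∧
        β ∉ N ∧ ∀ g : G, g = 1 ∨ (∃ φ : MulAut G, φ α = g) ∨ ∃ φ : MulAut G, φ β = g := by
    have hnot : ¬ (a ∈ N ∧ b ∈ N) := fun ⟨h1, h2⟩ => hNtop (eq_top_iff.mpr fun g _ => by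
      rcases horb g with rfl | ⟨φ, rfl⟩ | ⟨φ, rfl⟩
      exacts [one_mem N, hchar φ a h1, hchar φ b h2])
    obtain ⟨g, hg, hg1⟩ := (Subgroup.bot_or_exists_ne_one N).resolve_left hNbot
    rcases horb g with e | ⟨φ, e⟩ | ⟨φ, e⟩
    · exact absurd e hg1
    · have h1 : a ∈ N := by
        have := hchar φ⁻¹ g hg
        rwa [← e, MulAut.inv_apply_self] at this
      exact ⟨r, s, a, b, hr.1, hs, Ne.symm hsr, ha, hb, h1, fun h => hnot ⟨h1, h⟩, horb⟩
    · have h1 : b ∈ N := by
        have := hchar φ⁻¹ g hg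
        rwa [← e, MulAut.inv_apply_self] at this
      exact ⟨s, r, b, a, hs, hr.1, hsr, hb, ha, h1, fun h => hnot ⟨h, h1⟩,
        fun g => (horb g).imp_right Or.symm⟩
  have := Fact.mk hp
  have := Fact.mk hq
  have hmem : ∀ g : G, g ∈ N ↔ g = 1 ∨ orderOf g = p := by
    intro g
    rcases horb' g with rfl | ⟨φ, rfl⟩ | ⟨φ, rfl⟩
    · simp
    · exact iff_of_true (hchar φ α hαN) (Or.inr (by rw [MulEquiv.orderOf_eq, hα]))
    · refine iff_of_false (fun h => hβN ?_) ?_
      · have := hchar φ⁻¹ _ h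
        rwa [MulAut.inv_apply_self] at this
      · rintro (h | h)
        · rw [map_eq_one_iff _ φ.injective] at h
          exact hq.ne_one (by rw [← hβ, h, orderOf_one])
        · rw [MulEquiv.orderOf_eq, hβ] at h; exact hpq h.symm
  have hout : ∀ g : G, g ∉ N → orderOf g = q := by
    intro g hg
    rcases horb' g with rfl | ⟨φ, rfl⟩ | ⟨φ, rfl⟩
    · exact absurd (one_mem N) hg
    · exact absurd (hchar φ α hαN) hg
    · rw [MulEquiv.orderOf_eq, hβ]
  have hexp : ∀ g ∈ N, g ^ p = 1 := by
    intro g hg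
    rcases (hmem g).mp hg with rfl | h
    · simp
    · rw [← h, pow_orderOf_eq_one]
  have hNp : IsPGroup p N := fun g => ⟨1, Subtype.ext (by simpa using hexp g g.2)⟩
  have hfpf : ∀ x y : G, orderOf x = q → orderOf y = p → x * y * x⁻¹ ≠ y := by
    intro x y hx hy h
    have hcomm : Commute x y := mul_inv_eq_iff_eq_mul.mp h
    have hxy : orderOf (x * y) = q * p := by
      rw [hcomm.orderOf_mul_eq_mul_orderOf_of_coprime, hx, hy]
      rw [hx, hy]; exact (Nat.coprime_primes hq hp).mpr hpq.symm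
    by_cases hm : x * y ∈ N
    · rcases (hmem _).mp hm with e | e
      · rw [e, orderOf_one] at hxy; exact hq.ne_one (Nat.eq_one_of_dvd_one ⟨p, hxy⟩)
      · rw [e] at hxy; exact hq.ne_one (by simpa [hp.ne_zero] using hxy)
    · rw [hout _ hm] at hxy; exact hp.ne_one (by simpa [hq.ne_zero] using hxy)
  -- the centre of `N` is everything
  have hNcomm : IsMulCommutative N := by
    have : Nontrivial N := (Subgroup.nontrivial_iff_ne_bot N).mpr hNbot
    have := hNp.center_nontrivial
    obtain ⟨z, hz⟩ := exists_ne (1 : Subgroup.center N)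
    have hz1 : ((z : N) : G) ≠ 1 := fun e => hz (Subtype.ext (Subtype.ext e))
    have hzα : ∀ φ : MulAut G, φ ((z : N) : G) ∈ Subgroup.centralizer (N : Set G) := by
      intro φ
      rw [Subgroup.mem_centralizer_iff]
      intro m hm
      have h1 := congrArg Subtype.val (Subgroup.mem_center_iff.mp z.2 ⟨φ⁻¹ m, hchar φ⁻¹ m hm⟩)
      have h2 := congrArg φ h1
      simpa [MulAut.apply_inv_self] using h2
    refine ⟨⟨fun u v => Subtype.ext ?_⟩⟩
    by_cases hv : (v : G) = 1
    · simp [hv]
    rcases horb' ((z : N) : G) with e | ⟨φ, e⟩ | ⟨φ, e⟩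
    · exact absurd e hz1
    · rcases horb' (v : G) with e' | ⟨ψ, e'⟩ | ⟨ψ, e'⟩
      · exact absurd e' hv
      · have h1 := hzα (ψ * φ⁻¹)
        rw [MulAut.mul_apply, ← e, MulAut.inv_apply_self, e'] at h1
        exact Subgroup.mem_centralizer_iff.mp h1 u u.2
      · have : orderOf (v : G) = q := by rw [← e', MulEquiv.orderOf_eq, hβ]
        rcases (hmem _).mp v.2 with h | h
        · exact absurd h hv
        · exact absurd (h.symm.trans this) hpq
    · have : orderOf ((z : N) : G) = q := by rw [← e, MulEquiv.orderOf_eq, hβ]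
      rcases (hmem _).mp (z : N).2 with h | h
      · exact absurd h hz1
      · exact absurd (h.symm.trans this) hpq
  have hfpfN : ∀ x : G, x ∉ N → ∀ y ∈ N, x * y * x⁻¹ = y → y = 1 := by
    intro x hx y hy h
    rcases (hmem y).mp hy with e | e
    · exact e
    · exact absurd h (hfpf x y (hout x hx) e)
  have hexp' := exp_nsmul p N hexp
  letI := expModule p N hexp'
  have : Nontrivial (Additive N) := (Subgroup.nontrivial_iff_ne_bot N).mpr hNbot
  have hpow_mem : ∀ g : G, g ∈ Subgroup.zpowers β → g ∈ N → g = 1 := by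
    intro g hg hgN
    rcases (hmem g).mp hgN with e | e
    · exact e
    · obtain ⟨j, rfl⟩ := hg
      have hd : orderOf (β ^ j) ∣ q := orderOf_dvd_of_pow_eq_one (by
        show (β ^ j) ^ q = 1
        rw [← zpow_natCast, ← zpow_mul, mul_comm, zpow_mul, zpow_natCast, ← hβ, pow_orderOf_eq_one,
          one_zpow])
      change orderOf (β ^ j) = p at e
      rw [e] at hd
      exact absurd ((Nat.prime_dvd_prime_iff_eq hp hq).mp hd) hpq
  -- every element is `n * β ^ i`
  have hsup : ∀ g : G, ∃ i : ℕ, i < q ∧ g * (β ^ i)⁻¹ ∈ N := by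
    obtain ⟨Q, hQ⟩ : ∃ Q : Sylow q G, β ∈ Q := by
      have hpg : IsPGroup q (Subgroup.zpowers β) :=
        IsPGroup.of_card (n := 1) (by rw [Nat.card_zpowers, hβ, pow_one])
      obtain ⟨Q, hQ⟩ := hpg.exists_le_sylow
      exact ⟨Q, hQ (Subgroup.mem_zpowers β)⟩
    intro g
    by_cases hcontra : ∀ y ∈ (Q : Subgroup G), y ∈ Subgroup.zpowers β
    · have hQeq : (Q : Subgroup G) = Subgroup.zpowers β :=
        le_antisymm hcontra ((Subgroup.zpowers_le).mpr hQ)
      have hidx : N.index = q := by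
        have h1 : Nat.card (Q : Subgroup G) = q := by rw [hQeq, Nat.card_zpowers, hβ]
        obtain ⟨k, hk⟩ := (IsPGroup.iff_card.mp (fun x : G ⧸ N => by
          induction x using QuotientGroup.induction_on with
          | H x =>
          by_cases hx : x ∈ N
          · exact ⟨0, by rw [pow_zero, pow_one, (QuotientGroup.eq_one_iff x).mpr hx]⟩
          · exact ⟨1, by
              rw [pow_one, ← QuotientGroup.mk_pow, ← hout x hx, pow_orderOf_eq_one]; rfl⟩ :
            IsPGroup q (G ⧸ N)))
        have hki : N.index = q ^ k := hk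
        have hdd : q ^ k ∣ q ^ ((Nat.card G).factorization q) :=
          (Nat.Prime.pow_dvd_iff_dvd_ordProj hq Nat.card_pos.ne').mp (hki ▸ N.index_dvd_card)
        rw [← Sylow.card_eq_multiplicity Q, h1] at hdd
        rcases k with _ | k
        · exact absurd (Subgroup.index_eq_one.mp (by simpa using hki)) hNtop
        · rcases k with _ | k
          · simpa using hki
          · exact absurd hdd fun h => by
              have := Nat.le_of_dvd hq.pos ((pow_dvd_pow q (by omega : 2 ≤ k + 1 + 1)).trans h)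
              nlinarith [hq.two_le]
      have hβ' : orderOf (QuotientGroup.mk β : G ⧸ N) = q := by
        refine orderOf_eq_prime ?_ fun e => hβN ((QuotientGroup.eq_one_iff β).mp e)
        rw [← QuotientGroup.mk_pow, ← hβ, pow_orderOf_eq_one]; rfl
      have htop : Subgroup.zpowers (QuotientGroup.mk β : G ⧸ N) = ⊤ := by
        refine Subgroup.eq_top_of_card_eq _ ?_
        rw [Nat.card_zpowers, hβ']; exact hidx.symm
      have hg := (isOfFinOrder_of_finite (QuotientGroup.mk β : G ⧸ N)).mem_zpowers_iff_mem_range_orderOf.mp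
        (htop ▸ Subgroup.mem_top (QuotientGroup.mk g : G ⧸ N))
      obtain ⟨i, hi, hgi⟩ := Finset.mem_image.mp hg
      refine ⟨i, by rw [← hβ']; exact Finset.mem_range.mp hi, ?_⟩
      rw [← QuotientGroup.eq_one_iff, QuotientGroup.mk_mul, QuotientGroup.mk_inv,
        QuotientGroup.mk_pow, hgi, mul_inv_cancel]
    · exfalso
      push Not at hcontra
      obtain ⟨y, hyQ, hyβ⟩ := hcontra
      have hQN : ∀ u ∈ (Q : Subgroup G), u ∈ N → u = 1 := by
        intro u hu huN
        rcases (hmem u).mp huN with e | e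
        · exact e
        · obtain ⟨k, hk⟩ := Q.isPGroup' ⟨u, hu⟩
          have : orderOf u ∣ q ^ k := orderOf_dvd_of_pow_eq_one (congrArg Subtype.val hk)
          rw [e] at this
          exact absurd ((Nat.prime_dvd_prime_iff_eq hp hq).mp (hp.dvd_of_dvd_pow this)) hpq
      have hcomm : Commute β y := by
        refine commutatorElement_eq_one_iff_mul_comm.mp (hQN _ ?_ ?_)
        · exact mul_mem (mul_mem (mul_mem hQ hyQ) (inv_mem hQ)) (inv_mem hyQ)
        · exact Subgroup.commutator_mem_commutator (Subgroup.mem_top β) (Subgroup.mem_top y)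
      have hy1 : y ≠ 1 := fun e => hyβ (e ▸ one_mem _)
      have hyN : y ∉ N := fun h => hy1 (hQN y hyQ h)
      have hyq : y ^ q = 1 := by rw [← hout y hyN, pow_orderOf_eq_one]
      refine false_of_rank_two hpq (conjEnd p N β) (conjEnd p N y) ?_
        (conjEnd_zpow_facts N β (by rw [← hβ, pow_orderOf_eq_one])) (conjEnd_zpow_facts N y hyq)
        (conjEnd_fpf N β (hfpfN β hβN)) (conjEnd_fpf N y (hfpfN y hyN)) fun i hi v hv => ?_
      · show conjEnd p N β * conjEnd p N y = conjEnd p N y * conjEnd p N β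
        rw [← conjEnd_comp, ← conjEnd_comp, hcomm.eq]
      · have heq : conjEnd p N β * conjEnd p N y ^ i = conjEnd p N (β * y ^ i) := by
          rw [conjEnd_comp]
          congr 1
          exact LinearMap.ext fun w => Additive.toMul.injective (Subtype.ext (by
            rw [conjEnd_pow, conjEnd_apply]))
        rw [heq] at hv
        refine conjEnd_fpf N _ (hfpfN _ fun hmemN => ?_) v hv
        have h1 := hQN _ (mul_mem hQ (pow_mem hyQ i)) hmemN
        rcases Nat.eq_zero_or_pos i with hi0 | hi0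
        · rw [hi0, pow_zero, mul_one] at h1
          exact hq.ne_one (by rw [← hβ, h1, orderOf_one])
        · obtain ⟨m, hm⟩ := exists_pow_eq_self_of_coprime (x := y) (n := i) (by
            rw [hout y hyN]
            exact (hq.coprime_iff_not_dvd.mpr fun h => (Nat.le_of_dvd hi0 h).not_gt hi).symm)
          apply hyβ
          rw [← hm, eq_inv_of_mul_eq_one_right h1]
          exact pow_mem (inv_mem (Subgroup.mem_zpowers β)) m
  have hidx : N.index = q := by
    have hb' : orderOf (QuotientGroup.mk β : G ⧸ N) = q := by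
      refine orderOf_eq_prime ?_ fun e => hβN ((QuotientGroup.eq_one_iff β).mp e)
      rw [← QuotientGroup.mk_pow, ← hβ, pow_orderOf_eq_one]; rfl
    have htop : Subgroup.zpowers (QuotientGroup.mk β : G ⧸ N) = ⊤ := by
      refine eq_top_iff.mpr fun x _ => ?_
      induction x using QuotientGroup.induction_on with
      | H g =>
      obtain ⟨i, -, hi⟩ := hsup g
      rw [← QuotientGroup.eq_one_iff, QuotientGroup.mk_mul, QuotientGroup.mk_inv,
        mul_inv_eq_one, QuotientGroup.mk_pow] at hi
      rw [hi]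
      exact pow_mem (Subgroup.mem_zpowers _) i
    rw [← hb', ← Nat.card_zpowers, htop, Subgroup.card_top]; rfl
  refine ⟨p, q, ‹_›, ‹_›, N, inferInstance, hpq, hNp, hNbot, hNcomm, hexp, hidx, ?_, hfpf⟩
  have hT : conjEnd p N β ^ q = 1 := conjEnd_zpow_facts N β (by rw [← hβ, pow_orderOf_eq_one])
  have key : ∀ φ : MulAut G, ∃ (f : Additive N ≃+ Additive N) (i : ℕ),
      φ β * (β ^ i)⁻¹ ∈ N ∧ i < q ∧
      (∀ v : Additive N, f (conjEnd p N β v) = (conjEnd p N β ^ i) (f v)) ∧
      ∀ v : N, ((Additive.toMul (f (Additive.ofMul v)) : N) : G) = φ v := by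
    intro φ
    obtain ⟨i, hiq, hi⟩ := hsup (φ β)
    let g : N ≃* N :=
      { toFun := fun v => ⟨φ v, hchar φ v v.2⟩
        invFun := fun v => ⟨φ⁻¹ v, hchar φ⁻¹ v v.2⟩
        left_inv := fun v => Subtype.ext (MulAut.inv_apply_self _ φ v)
        right_inv := fun v => Subtype.ext (MulAut.apply_inv_self _ φ v)
        map_mul' := fun u v => Subtype.ext (map_mul φ (u : G) v) }
    refine ⟨MulEquiv.toAdditive g, i, hi, hiq, fun v => ?_, fun v => rfl⟩
    apply Additive.toMul.injective
    apply Subtype.ext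
    rw [conjEnd_pow]
    show φ (((Additive.toMul (conjEnd p N β v) : N) : G)) = β ^ i * φ _ * (β ^ i)⁻¹
    rw [conjEnd_apply, map_mul, map_mul, map_inv]
    set w := φ ((Additive.toMul v : N) : G) with hw
    have hwN : w ∈ N := hchar φ _ (Additive.toMul v).2
    have hc : (φ β * (β ^ i)⁻¹) * (β ^ i * w * (β ^ i)⁻¹) =
        (β ^ i * w * (β ^ i)⁻¹) * (φ β * (β ^ i)⁻¹) :=
      congrArg Subtype.val (mul_comm' (⟨_, hi⟩ : N)
        ⟨_, Subgroup.Normal.conj_mem inferInstance w hwN (β ^ i)⟩)
    calc φ β * w * (φ β)⁻¹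
        = (φ β * (β ^ i)⁻¹) * (β ^ i * w * (β ^ i)⁻¹) * (φ β * (β ^ i)⁻¹)⁻¹ := by group
      _ = _ := by rw [hc]; group
  refine orderOf_eq_of_transitive hpq (conjEnd p N β) hT (conjEnd_fpf N β (hfpfN β hβN)) ?_ ?_
  · intro v w hv hw
    have hv1 : ((Additive.toMul v : N) : G) ≠ 1 := fun e =>
      hv (Additive.toMul.injective (Subtype.ext e))
    have hw1 : ((Additive.toMul w : N) : G) ≠ 1 := fun e =>
      hw (Additive.toMul.injective (Subtype.ext e))
    have hto : ∀ u : N, (u : G) ≠ 1 → ∃ φ : MulAut G, φ α = u := by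
      intro u hu
      rcases horb' (u : G) with e | e | ⟨φ, e⟩
      · exact absurd e hu
      · exact e
      · have h1 : orderOf (u : G) = q := by rw [← e, MulEquiv.orderOf_eq, hβ]
        rcases (hmem _).mp u.2 with h | h
        · exact absurd h hu
        · exact absurd (h.symm.trans h1) hpq
    obtain ⟨φ1, h1⟩ := hto _ hv1
    obtain ⟨φ2, h2⟩ := hto _ hw1
    obtain ⟨f, i, -, -, hf, hfv⟩ := key (φ2 * φ1⁻¹)
    refine ⟨f, i, hf, Additive.toMul.injective (Subtype.ext ?_)⟩
    have := hfv (Additive.toMul v)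
    rw [MulAut.mul_apply, ← h1, MulAut.inv_apply_self, h2] at this
    exact this
  · intro i hi hiq
    have hbi : β ^ i ∉ N := fun h =>
      pow_ne_one_of_lt_orderOf hi.ne' (hβ.symm ▸ hiq) (hpow_mem _ (pow_mem (Subgroup.mem_zpowers β) i) h)
    obtain ⟨φ, hφ⟩ : ∃ φ : MulAut G, φ β = β ^ i := by
      rcases horb' (β ^ i) with e | ⟨φ, e⟩ | e
      · exact absurd (e ▸ one_mem N) hbi
      · exact absurd (e ▸ hchar φ α hαN) hbi
      · exact e
    obtain ⟨f, j, hj, hjq, hf, -⟩ := key φ
    rw [hφ] at hj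
    have hij : β ^ i = β ^ j := mul_inv_eq_one.mp
      (hpow_mem _ (mul_mem (pow_mem (Subgroup.mem_zpowers β) i) (inv_mem (pow_mem (Subgroup.mem_zpowers β) j))) hj)
    have : i = j := pow_injOn_Iio_orderOf (hβ.symm ▸ hiq) (hβ.symm ▸ hjq) hij
    exact ⟨f, this ▸ hf⟩

end CfsgLib.ThreeOrbit
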